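import Mathlib
import Groth.Agent.RegLoc6.Seq
import Groth.Agent.CAlgGlobalDim.RegSeq

/-! Elements of a regular local ring which are independent modulo the square of the maximal ideal. -/

set_option autoImplicit false

universe u

open IsLocalRing RingTheory.Sequence Groth.Agent.RegLoc6

namespace Groth.Agent.RegIndep

theorem regular_of_indep : ∀ (n : ℕ) (R : Type u) [CommRing R] [IsRegularLocalRing R] (f : Fin n → R),
    (∀ i, f i ∈ maximalIdeal R) →
    (∀ a : Fin n → R, ∑ i, a i * f i ∈ maximalIdeal R ^ 2 → ∀ i, a i ∈ maximalIdeal R) →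
    IsRegularLocalRing (R ⧸ Ideal.span (Set.range f)) ∧ IsWeaklyRegular R (List.ofFn f) := by
  intro n
  induction n with
  | zero =>
    intro R _ _ f _ _
    refine ⟨?_, by rw [List.ofFn_zero]; exact IsWeaklyRegular.nil R R⟩
    exact IsRegularLocalRing.of_ringEquiv (RingEquiv.quotientBot R).symm |>.of_ringEquiv
      (Ideal.quotEquivOfEq (by rw [Set.range_eq_empty f]; exact Ideal.span_empty.symm))
  | succ n ih =>
    intro R _ _ f hf hind
    have hx2 : f 0 ∉ maximalIdeal R ^ 2 := by
      intro h
      have h1 := hind (Pi.single 0 1) (by simpa [Pi.single_apply] using h) 0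
      rw [Pi.single_eq_same] at h1
      exact (maximalIdeal.isMaximal R).ne_top (Ideal.eq_top_of_isUnit_mem _ h1 isUnit_one)
    haveI := isLocalRing_quot (hf 0)
    haveI := (isRegularLocalRing_quot_and (hf 0) hx2).1
    let q := Ideal.Quotient.mk (Ideal.span {f 0})
    let g : Fin n → R ⧸ Ideal.span {f 0} := fun i => q (f i.succ)
    have hmax : (maximalIdeal R).map q = maximalIdeal (R ⧸ Ideal.span {f 0}) := map_maximalIdeal_quot _
    obtain ⟨h1, h2⟩ := ih (R ⧸ Ideal.span {f 0}) g (fun i => hmax ▸ Ideal.mem_map_of_mem q (hf i.succ))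
      (fun a ha i => by
        choose b hb using fun i => Ideal.Quotient.mk_surjective (a i)
        have h3 : q (∑ i, b i * f i.succ) ∈ (maximalIdeal R ^ 2).map q := by
          rw [Ideal.map_pow, hmax, map_sum]
          simpa only [map_mul, hb, q, g] using ha
        obtain ⟨z, hz, hzq⟩ := (Ideal.mem_map_iff_of_surjective q Ideal.Quotient.mk_surjective).1 h3
        obtain ⟨t, ht⟩ := Ideal.mem_span_singleton'.1 (Ideal.Quotient.eq.1 hzq)
        have h4 : ∑ k, (Fin.cons t b : Fin (n + 1) → R) k * f k ∈ maximalIdeal R ^ 2 := by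
          rw [Fin.sum_univ_succ]
          simp only [Fin.cons_zero, Fin.cons_succ]
          rw [ht, sub_add_cancel]
          exact hz
        have h5 := hind _ h4 i.succ
        rw [Fin.cons_succ] at h5
        exact hb i ▸ hmax ▸ Ideal.mem_map_of_mem q h5)
    constructor
    · have hspan : Ideal.span (Set.range f) = Ideal.span {f 0} ⊔ Ideal.span (Set.range fun i : Fin n => f i.succ) := by
        rw [← Ideal.span_union]
        refine congrArg Ideal.span (Set.ext fun z => ?_)
        simp [Fin.exists_fin_succ, eq_comm]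
      have hmap : Ideal.span (Set.range g) = (Ideal.span (Set.range fun i : Fin n => f i.succ)).map q := by
        rw [Ideal.map_span, ← Set.range_comp]; rfl
      haveI := h1
      exact IsRegularLocalRing.of_ringEquiv ((Ideal.quotEquivOfEq hmap).trans
        ((DoubleQuot.quotQuotEquivQuotSup (Ideal.span {f 0}) _).trans (Ideal.quotEquivOfEq hspan.symm)))
    · rw [List.ofFn_succ, isWeaklyRegular_cons_quot_iff, List.map_ofFn]
      exact ⟨isSMulRegular_of_notMem_sq hx2, h2⟩

end Groth.Agent.RegIndep
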